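import Mathlib.AlgebraicGeometry.Morphisms.FinitePresentation
import Mathlib.Topology.JacobsonSpace

/-!
# Constructible sets in Jacobson spaces contain closed points; surjectivity on closed points
-/

set_option autoImplicit false
universe u

open Topology AlgebraicGeometry

namespace Groth.Agent.ConstrPt19

theorem exists_isLocallyClosed {X : Type*} [TopologicalSpace X] {s : Set X} (hs : IsConstructible s) :
    ∀ x, ∃ Z, IsLocallyClosed Z ∧ x ∈ Z ∧ (Z ⊆ s ∨ Z ⊆ sᶜ) := by
  induction hs using IsConstructible.empty_union_induction with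
  | open_retrocompact U hU _ =>
    intro x
    by_cases hx : x ∈ U
    · exact ⟨U, hU.isLocallyClosed, hx, Or.inl subset_rfl⟩
    · exact ⟨Uᶜ, hU.isClosed_compl.isLocallyClosed, hx, Or.inr subset_rfl⟩
  | union s _ t _ hs ht =>
    intro x
    obtain ⟨Z, hZ, hxZ, h⟩ := hs x
    obtain ⟨W, hW, hxW, h'⟩ := ht x
    refine ⟨Z ∩ W, hZ.inter hW, ⟨hxZ, hxW⟩, ?_⟩
    rcases h with h | h
    · exact Or.inl fun y hy => Or.inl (h hy.1)
    rcases h' with h' | h'
    · exact Or.inl fun y hy => Or.inr (h' hy.2)
    · exact Or.inr fun y hy hyst => hyst.elim (h hy.1) (h' hy.2)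
  | compl s _ hs =>
    intro x
    obtain ⟨Z, hZ, hxZ, h⟩ := hs x
    exact ⟨Z, hZ, hxZ, h.elim (fun h => Or.inr (by rwa [compl_compl])) Or.inl⟩

/-- A quasi-compact morphism locally of finite presentation to a qcqs Jacobson scheme is surjective when
its image contains the closed points. -/
theorem surjective_of_closedPoints {X Y : Scheme.{u}} (f : X ⟶ Y) [LocallyOfFinitePresentation f]
    [QuasiCompact f] [CompactSpace Y] [QuasiSeparatedSpace Y] [JacobsonSpace Y]
    (h : ∀ y : Y, IsClosed ({y} : Set Y) → y ∈ Set.range f) : Surjective f := by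
  refine ⟨fun y => ?_⟩
  have hc : IsConstructible (Set.range f) := by
    rw [← Set.image_univ]
    haveI : CompactSpace X := QuasiCompact.compactSpace_of_compactSpace f
    exact f.isConstructible_image IsConstructible.univ
  obtain ⟨Z, hZ, hyZ, hsub | hsub⟩ := exists_isLocallyClosed hc y
  · exact hsub hyZ
  · obtain ⟨z, hz, hzc⟩ := nonempty_inter_closedPoints ⟨y, hyZ⟩ hZ
    exact absurd (h z hzc) (hsub hz)

end Groth.Agent.ConstrPt19
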